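import Mathlib
import Cfsg.Agent.Lib.Burnside.Paqb

/-!
Counting commuting pairs: a finite group in which at least a quarter of all pairs commute is
solvable.
-/

set_option autoImplicit false

namespace Cfsg.Agent.Lib.CommPairs

universe u

/-- The number of commuting pairs. -/
noncomputable def pairs (G : Type*) [Group G] : ℕ :=
  Nat.card { q : G × G // Commute q.1 q.2 }

lemma pairs_eq_sum (G : Type*) [Group G] [Fintype G] :
    pairs G = ∑ a : G, Nat.card (Subgroup.centralizer ({a} : Set G)) := by
  classical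
  rw [pairs, ← Nat.card_sigma]
  refine Nat.card_congr
    { toFun := fun q => ⟨q.1.1, q.1.2, Subgroup.mem_centralizer_singleton_iff.mpr q.2.symm⟩
      invFun := fun q => ⟨(q.1, q.2.1), (Subgroup.mem_centralizer_singleton_iff.mp q.2.2).symm⟩
      left_inv := fun _ => rfl
      right_inv := fun _ => rfl }

/-- Commuting pairs map to commuting pairs of a quotient. -/
lemma pairs_le_quotient {G : Type*} [Group G] [Finite G] (K : Subgroup G) [K.Normal] :
    pairs G ≤ Nat.card K ^ 2 * pairs (G ⧸ K) := by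
  classical
  have hcard : Nat.card (K × K) = Nat.card K ^ 2 := by rw [Nat.card_prod, pow_two]
  rw [pairs, pairs, ← hcard, ← Nat.card_prod]
  let sec : G ⧸ K → G := Quotient.out
  have hsec : ∀ g : G, (sec g)⁻¹ * g ∈ K := fun g => by
    rw [← QuotientGroup.eq]; exact QuotientGroup.out_eq' _
  refine Nat.card_le_card_of_injective (fun q =>
    ((⟨_, hsec q.1.1⟩, ⟨_, hsec q.1.2⟩), ⟨((q.1.1 : G ⧸ K), (q.1.2 : G ⧸ K)),
      Commute.map q.2 (QuotientGroup.mk' K)⟩)) ?_
  rintro ⟨⟨a, b⟩, hab⟩ ⟨⟨c, d⟩, hcd⟩ h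
  have h1 := congrArg (fun z => (z.1.1 : G)) h
  have h2 := congrArg (fun z => (z.1.2 : G)) h
  have h3 := congrArg (fun z => z.2.1.1) h
  have h4 := congrArg (fun z => z.2.1.2) h
  simp only at h1 h2 h3 h4
  rw [h3] at h1
  rw [h4] at h2
  obtain rfl := mul_left_cancel h1
  obtain rfl := mul_left_cancel h2
  rfl

/-- Commuting pairs in a subgroup. -/
lemma pairs_le_subgroup {G : Type*} [Group G] [Finite G] (K : Subgroup G) :
    pairs G ≤ K.index ^ 2 * pairs K := by
  classical
  have := Fintype.ofFinite G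
  have hcard : Nat.card ((G ⧸ K) × (G ⧸ K)) = K.index ^ 2 := by
    rw [Nat.card_prod, pow_two]; rfl
  rw [pairs, pairs, ← hcard, ← Nat.card_prod]
  -- representatives of the cosets of `K` among the elements commuting with a given element
  have hc : ∀ (g : G) (q : G ⧸ K), ∃ c : G, (∀ y : G, Commute g y → (y : G ⧸ K) = q →
      Commute g c ∧ (c : G ⧸ K) = q) := by
    intro g q
    by_cases h : ∃ y : G, Commute g y ∧ (y : G ⧸ K) = q
    · obtain ⟨y, hy⟩ := h; exact ⟨y, fun _ _ _ => hy⟩
    · exact ⟨1, fun y h1 h2 => absurd ⟨y, h1, h2⟩ h⟩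
  choose rep hrep using hc
  -- the first coordinate is moved into `K`, keeping the second, then the second
  have hk : ∀ q : { q : G × G // Commute q.1 q.2 },
      (rep q.1.2 (q.1.1 : G ⧸ K))⁻¹ * q.1.1 ∈ K ∧
      Commute q.1.2 ((rep q.1.2 (q.1.1 : G ⧸ K))⁻¹ * q.1.1) := by
    intro q
    obtain ⟨h1, h2⟩ := hrep q.1.2 _ q.1.1 q.2.symm rfl
    exact ⟨QuotientGroup.eq.mp h2, (h1.inv_right).mul_right q.2.symm⟩
  let k1 : { q : G × G // Commute q.1 q.2 } → G := fun q => (rep q.1.2 (q.1.1 : G ⧸ K))⁻¹ * q.1.1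
  have hk2 : ∀ q, (rep (k1 q) (q.1.2 : G ⧸ K))⁻¹ * q.1.2 ∈ K ∧
      Commute (k1 q) ((rep (k1 q) (q.1.2 : G ⧸ K))⁻¹ * q.1.2) := by
    intro q
    obtain ⟨h1, h2⟩ := hrep (k1 q) _ q.1.2 (hk q).2.symm rfl
    exact ⟨QuotientGroup.eq.mp h2, (h1.inv_right).mul_right (hk q).2.symm⟩
  refine Nat.card_le_card_of_injective (fun q =>
    (((q.1.1 : G ⧸ K), (q.1.2 : G ⧸ K)),
      ⟨(⟨_, (hk q).1⟩, ⟨_, (hk2 q).1⟩), Subtype.ext (hk2 q).2⟩)) ?_
  rintro ⟨⟨a, b⟩, hab⟩ ⟨⟨c, d⟩, hcd⟩ h
  have h1 := congrArg (fun z => z.1.1) h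
  have h2 := congrArg (fun z => z.1.2) h
  have h3 := congrArg (fun z => (z.2.1.1 : G)) h
  have h4 := congrArg (fun z => (z.2.1.2 : G)) h
  simp only [k1] at h1 h2 h3 h4
  rw [h3, h2] at h4
  have hbd : b = d := mul_left_cancel h4
  subst hbd
  rw [h1] at h3
  have hac : a = c := mul_left_cancel h3
  subst hac
  rfl

lemma index_normalCore_dvd_factorial {G : Type*} [Group G] [Finite G] (K : Subgroup G) :
    K.normalCore.index ∣ K.index.factorial := by
  rw [Subgroup.normalCore_eq_ker, Subgroup.index_ker, Subgroup.index, ← Nat.card_perm]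
  exact Subgroup.card_subgroup_dvd_card _

/-- A proper subgroup of a non-solvable simple group has index at least 5. -/
lemma five_le_index {G : Type u} [Group G] [Finite G] [IsSimpleGroup G]
    (hns : ¬ Group.IsSolvable G) (H : Subgroup G) (hH : H ≠ ⊤) : 5 ≤ H.index := by
  by_contra hlt
  push Not at hlt
  have hcore : H.normalCore = ⊥ :=
    (Subgroup.normalCore_normal H).eq_bot_or_eq_top.resolve_right fun h =>
      hH (top_le_iff.mp (h ▸ Subgroup.normalCore_le H))
  have hd := index_normalCore_dvd_factorial H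
  rw [hcore, Subgroup.index_bot] at hd
  have h24 : Nat.card G ∣ 2 ^ 3 * 3 := by
    refine hd.trans ?_
    have h0 : H.index ≠ 0 := Subgroup.index_ne_zero_of_finite
    exact Nat.factorial_dvd_factorial (show H.index ≤ 4 by omega)
  obtain ⟨a, b, ha, hb, hab⟩ := Nat.dvd_mul.mp h24
  obtain ⟨i, -, rfl⟩ := (Nat.dvd_prime_pow Nat.prime_two).mp ha
  obtain ⟨j, -, rfl⟩ := (Nat.dvd_prime_pow Nat.prime_three).mp (show b ∣ 3 ^ 1 by simpa using hb)
  exact hns (Lib.Burnside.isSolvable_of_card_eq_prime_pow_mul Nat.prime_two Nat.prime_three hab.symm)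

lemma quarter_simple {G : Type u} [Group G] [Finite G] [IsSimpleGroup G]
    (hns : ¬ Group.IsSolvable G) : 4 * pairs G < Nat.card G ^ 2 := by
  classical
  have := Fintype.ofFinite G
  have hz : Subgroup.center G = ⊥ := by
    refine (inferInstance : (Subgroup.center G).Normal).eq_bot_or_eq_top.resolve_right fun h => hns ?_
    exact Group.isSolvable_of_comm fun a b => (Subgroup.mem_center_iff.mp (h ▸ Subgroup.mem_top b) a)
  have hC : ∀ a : G, a ≠ 1 → 5 * Nat.card (Subgroup.centralizer ({a} : Set G)) ≤ Nat.card G := by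
    intro a ha
    have hne : Subgroup.centralizer ({a} : Set G) ≠ ⊤ := fun h => ha (by
      rw [← Subgroup.mem_bot, ← hz, Subgroup.mem_center_iff]
      exact fun g => Subgroup.mem_centralizer_singleton_iff.mp (h ▸ Subgroup.mem_top g))
    rw [← (Subgroup.centralizer ({a} : Set G)).card_mul_index, mul_comm]
    exact Nat.mul_le_mul_left _ (five_le_index hns _ hne)
  have h60 : 25 ≤ Nat.card G := by
    obtain ⟨a, ha⟩ := exists_ne (1 : G)
    have h5 := hC a ha
    by_contra hlt
    push Not at hlt
    have hne : Subgroup.zpowers a ≠ ⊤ := fun h => hns (Group.isSolvable_of_comm fun x y => by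
      obtain ⟨i, rfl⟩ := Subgroup.mem_zpowers_iff.mp (h ▸ Subgroup.mem_top x)
      obtain ⟨j, rfl⟩ := Subgroup.mem_zpowers_iff.mp (h ▸ Subgroup.mem_top y)
      exact (Commute.refl a).zpow_zpow i j |>.eq)
    have hi := five_le_index hns _ hne
    have hm := (Subgroup.zpowers a).card_mul_index
    rw [Nat.card_zpowers] at hm
    have h2 : 2 ≤ orderOf a := by
      have := orderOf_pos a
      have : orderOf a ≠ 1 := fun h => ha (orderOf_eq_one_iff.mp h)
      omega
    -- every element has order at most 4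
    have h4 : orderOf a ≤ 4 := by nlinarith
    apply hns
    -- all prime divisors are 2 or 3
    have hpr : ∀ p : ℕ, p.Prime → p ∣ Nat.card G → p = 2 ∨ p = 3 := by
      intro p hp hd
      have : Fact p.Prime := ⟨hp⟩
      obtain ⟨b, hb⟩ := exists_prime_orderOf_dvd_card' p hd
      have hb1 : b ≠ 1 := fun h => hp.ne_one (by rw [← hb, h, orderOf_one])
      have hne' : Subgroup.zpowers b ≠ ⊤ := fun h => hns (Group.isSolvable_of_comm fun x y => by
        obtain ⟨i, rfl⟩ := Subgroup.mem_zpowers_iff.mp (h ▸ Subgroup.mem_top x)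
        obtain ⟨j, rfl⟩ := Subgroup.mem_zpowers_iff.mp (h ▸ Subgroup.mem_top y)
        exact (Commute.refl b).zpow_zpow i j |>.eq)
      have hi' := five_le_index hns _ hne'
      have hm' := (Subgroup.zpowers b).card_mul_index
      rw [Nat.card_zpowers, hb] at hm'
      have : p ≤ 4 := by nlinarith
      have := hp.two_le
      interval_cases p
      · exact Or.inl rfl
      · exact Or.inr rfl
      · exact absurd hp (by norm_num)
    have hfac : Nat.card G = 2 ^ (Nat.card G).factorization 2 * 3 ^ (Nat.card G).factorization 3 := by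
      refine Nat.eq_of_factorization_eq Nat.card_pos.ne' (by positivity) fun r => ?_
      rw [Nat.factorization_mul (by positivity) (by positivity), Finsupp.add_apply,
        Nat.Prime.factorization_pow Nat.prime_two, Nat.Prime.factorization_pow Nat.prime_three]
      by_cases h2r : r = 2
      · subst h2r; simp
      by_cases h3r : r = 3
      · subst h3r; simp
      rw [Finsupp.single_eq_of_ne h2r, Finsupp.single_eq_of_ne h3r]
      by_cases hrp : r.Prime
      · exact Nat.factorization_eq_zero_of_not_dvd fun hd => by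
          rcases hpr r hrp hd with rfl | rfl <;> contradiction
      · exact Nat.factorization_eq_zero_of_not_prime _ hrp
    exact Lib.Burnside.isSolvable_of_card_eq_prime_pow_mul Nat.prime_two Nat.prime_three hfac
  have hsum : 5 * pairs G ≤ 5 * Nat.card G + Nat.card G * Nat.card G := by
    rw [pairs_eq_sum, Finset.mul_sum, ← Finset.add_sum_erase _ _ (Finset.mem_univ (1 : G))]
    refine Nat.add_le_add ?_ ?_
    · exact Nat.mul_le_mul_left 5 (Subgroup.card_le_card_group _)
    · calc _ ≤ ∑ _a ∈ Finset.univ.erase (1 : G), Nat.card G :=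
            Finset.sum_le_sum fun a ha => hC a (Finset.ne_of_mem_erase ha)
        _ ≤ ∑ _a : G, Nat.card G := Finset.sum_le_sum_of_subset (Finset.subset_univ _)
        _ = Nat.card G * Nat.card G := by simp [Nat.card_eq_fintype_card]
  nlinarith

/-- If at least a quarter of all pairs commute then the group is solvable. -/
theorem isSolvable_of_quarter : ∀ (n : ℕ) (G : Type u) [Group G] [Finite G], Nat.card G = n →
    Nat.card G ^ 2 ≤ 4 * pairs G → Group.IsSolvable G := by
  intro n
  induction n using Nat.strong_induction_on with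
  | _ n ih =>
    intro G _ _ hn hG
    by_cases hN : ∃ K : Subgroup G, K.Normal ∧ K ≠ ⊥ ∧ K ≠ ⊤
    · obtain ⟨K, hK, hbot, htop⟩ := hN
      have hm := K.card_mul_index
      have hK1 : 1 < Nat.card K := (Subgroup.one_lt_card_iff_ne_bot K).mpr hbot
      have hi1 : 1 < K.index := Nat.one_lt_iff_ne_zero_and_ne_one.mpr
        ⟨Subgroup.index_ne_zero_of_finite, fun h => htop (Subgroup.index_eq_one.mp h)⟩
      have h1 := pairs_le_subgroup K
      have h2 := pairs_le_quotient K
      have hq : Nat.card (G ⧸ K) = K.index := rfl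
      have hKs : Group.IsSolvable K := by
        refine ih (Nat.card K) (by nlinarith) K rfl ?_
        have : K.index ^ 2 * Nat.card K ^ 2 ≤ K.index ^ 2 * (4 * pairs K) := by
          calc K.index ^ 2 * Nat.card K ^ 2 = Nat.card G ^ 2 := by rw [← hm]; ring
            _ ≤ 4 * pairs G := hG
            _ ≤ K.index ^ 2 * (4 * pairs K) := by nlinarith
        exact Nat.le_of_mul_le_mul_left this (by positivity)
      have hQs : Group.IsSolvable (G ⧸ K) := by
        refine ih (Nat.card (G ⧸ K)) (by nlinarith) (G ⧸ K) rfl ?_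
        have : Nat.card K ^ 2 * Nat.card (G ⧸ K) ^ 2 ≤ Nat.card K ^ 2 * (4 * pairs (G ⧸ K)) := by
          calc Nat.card K ^ 2 * Nat.card (G ⧸ K) ^ 2 = Nat.card G ^ 2 := by rw [hq, ← hm]; ring
            _ ≤ 4 * pairs G := hG
            _ ≤ Nat.card K ^ 2 * (4 * pairs (G ⧸ K)) := by nlinarith
        exact Nat.le_of_mul_le_mul_left this (by positivity)
      exact Group.isSolvable_of_ker_le_range K.subtype (QuotientGroup.mk' K) (by simp)
    · push Not at hN
      by_contra hns
      have : Nontrivial G := by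
        by_contra h
        rw [not_nontrivial_iff_subsingleton] at h
        exact hns (Group.isSolvable_of_comm fun a b => Subsingleton.elim _ _)
      have : IsSimpleGroup G :=
        ⟨fun H hH => or_iff_not_imp_left.mpr fun hb => hN H hH hb⟩
      have := quarter_simple hns
      omega

end Cfsg.Agent.Lib.CommPairs
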